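import Cfsg.Agent.DL.St.Aut
import Cfsg.Agent.DL.St.Harm
import Cfsg.Agent.DL.Dat.Conj
import Cfsg.Agent.DL.Asm.Defs

/-!
# The number of pairs (stable maximal torus, rational point of it) is the order of `G^F` (helper4)
-/

set_option autoImplicit false
set_option linter.unusedSectionVars false

namespace Cfsg.Agent.DL.St

open Cfsg.Agent.Nodes.Reps Cfsg.Agent.DL.Asm

variable {p : ℕ} [Fact p.Prime] {k : Type} [Field k] [CharP k p] [IsAlgClosed k] {Y : Type} [Group Y] {N : Type}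
  [Fintype N] [DecidableEq N] {ρ : Y →* GL N k} {F : MulAut Y} {G : Subgroup Y} (D : Datum p ρ F G)

/-- a chosen representative -/
noncomputable def rp (w : D.W) : Y := (exists_rp D.cs D.nsys w).choose

theorem rp_spec (w : D.W) : D.Rp w (rp D w) := (exists_rp D.cs D.nsys w).choose_spec

theorem rp_mem (w : D.W) : rp D w ∈ D.NN := ⟨w, rp_spec D w⟩

theorem pr_rp (w : D.W) : D.pr (rp D w) = w := (rp_spec D w).pr_eq

/-- the frames whose type is a chosen representative -/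
abbrev Zf : Type := {y // y ∈ G ∧ ∃ w, y⁻¹ * F y = rp D w}

theorem card_Zf : Nat.card (Zf D) = Nat.card D.W * Nat.card (GF F G) := by
  have := D.amb.finite_GF G
  refine card_of_fibers (fun y : Zf D => D.pr (y.1⁻¹ * F y.1)) Nat.card_pos.ne' fun w => ?_
  obtain ⟨x, hx, e⟩ := D.lang_G (D.NN_le_G (rp_mem D w))
  refine Eq.trans (Nat.card_congr ?_) (card_lang F.toMonoidHom hx e)
  refine ⟨fun y => ⟨y.1.1, y.1.2.1, ?_⟩, fun y => ⟨⟨y.1, y.2.1, w, y.2.2.symm⟩, ?_⟩, fun _ => rfl, fun _ => rfl⟩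
  · obtain ⟨⟨y, h1, v, h2⟩, h3⟩ := y
    dsimp only at h3 ⊢
    rw [h2, pr_rp] at h3
    rw [← h3]
    exact h2.symm
  · have h : rp D w = y.1⁻¹ * F y.1 := y.2.2
    show D.pr (y.1⁻¹ * F y.1) = w
    rw [← h, pr_rp]

theorem Zf.mem (y : Zf D) : y.1⁻¹ * F y.1 ∈ D.NN := by
  obtain ⟨w, h⟩ := y.2.2
  rw [h]
  exact rp_mem D w

/-- the torus of a frame -/
def Zf.tor (y : Zf D) : tori D := ⟨cj y.1 D.T, y.1, y.2.1, rfl, (D.stable_iff y.2.1).2 (Zf.mem D y)⟩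

theorem cj_NN {a : Y} (ha : a ∈ D.NN) : cj a D.T = D.T := by
  obtain ⟨w, hw⟩ := ha
  exact mem_normalizer_iff_cj.1 hw.mem_normalizer

theorem mem_NN_of_cj {x y : Y} (hx : x ∈ G) (hy : y ∈ G) (e : cj y D.T = cj x D.T) : x⁻¹ * y ∈ D.NN := by
  refine D.mem_NN_of_conj (mul_mem (inv_mem hx) hy) fun t ht => ?_
  have h1 : y * t * y⁻¹ ∈ cj x D.T := e ▸ conj_mem_cj.2 ht
  rw [mem_cj] at h1
  convert h1 using 1
  group

theorem card_fiber_tor (T : tori D) :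
    Nat.card {y : Zf D // Zf.tor D y = T} = Nat.card D.W * Nat.card ↥(T.1 ⊓ GF F G) := by
  obtain ⟨T, x, hx, rfl, hT⟩ := T
  have hF := (D.stable_iff hx).1 hT
  have := D.amb.finite_GF G
  have : Finite ↥(cj x D.T ⊓ GF F G) := Finite.of_injective _ (Subgroup.inclusion_injective inf_le_right)
  refine card_of_fibers (fun y => D.pr (x⁻¹ * y.1.1)) Nat.card_pos.ne' fun v => ?_
  obtain ⟨z, hz⟩ : ∃ z, z = x * rp D v := ⟨_, rfl⟩
  have hr : rp D v = x⁻¹ * z := by rw [hz]; group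
  have hzG : z ∈ G := hz ▸ mul_mem hx (D.NN_le_G (rp_mem D v))
  have hzT : cj z D.T = cj x D.T := by rw [hz, cj_mul, cj_NN D (rp_mem D v)]
  have hzF : z⁻¹ * F z ∈ D.NN := (D.stable_iff hzG).1 (hzT ▸ hT)
  obtain ⟨c, hc⟩ : ∃ c, c = z * rp D (D.pr (z⁻¹ * F z)) * (F z)⁻¹ := ⟨_, rfl⟩
  have hcT : c ∈ cj z D.T := by
    rw [mem_cj]
    have h1 := ((rp_spec D (D.pr (z⁻¹ * F z))).inv.unique (D.rp_pr hzF).inv)
    convert h1 using 1
    rw [hc]
    group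
  obtain ⟨s₀, hs₀, e₀⟩ := (D.conj hzG hzF).lang_T hcT
  have h1 := card_lang (K := cj z D.T) F.toMonoidHom hs₀ e₀
  have h2 : Nat.card {s // s ∈ cj z D.T ∧ F.toMonoidHom s = s} = Nat.card ↥(cj x D.T ⊓ GF F G) := by
    rw [hzT]
    refine Nat.card_congr (Equiv.subtypeEquivRight fun s => ⟨fun h => ⟨h.1, ?_, h.2⟩, fun h => ⟨h.1, h.2.2⟩⟩)
    exact (D.conj hx hF).T_le_G h.1
  rw [← h2, ← h1]
  have key : ∀ s ∈ cj z D.T, D.pr ((s * z)⁻¹ * F (s * z)) = D.pr (z⁻¹ * F z) := by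
    intro s hs
    have h3 : z⁻¹ * (s⁻¹ * F s) * z ∈ D.T := mem_cj.1 (mul_mem (inv_mem hs) ((D.conj hzG hzF).F_mem_T hs))
    have h4 : (s * z)⁻¹ * F (s * z) = z⁻¹ * (s⁻¹ * F s) * z * (z⁻¹ * F z) := by rw [map_mul]; group
    rw [h4, D.pr_mul (D.T_le_NN h3) hzF, (D.pr_eq_one_iff (D.T_le_NN h3)).2 h3, one_mul]
  have hs : ∀ y : {y : {y : Zf D // Zf.tor D y = ⟨cj x D.T, x, hx, rfl, hT⟩} // D.pr (x⁻¹ * y.1.1) = v},
      y.1.1.1 * z⁻¹ ∈ cj z D.T := by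
    rintro ⟨⟨⟨y, hy, h3⟩, h4⟩, h5⟩
    have h6 : x⁻¹ * y ∈ D.NN := mem_NN_of_cj D hx hy (congrArg Subtype.val h4)
    have h7 : D.Rp v (x⁻¹ * y) := h5 ▸ D.rp_pr h6
    rw [mem_cj]
    convert (rp_spec D v).unique h7 using 1
    rw [hr]
    group
  refine Nat.card_congr ⟨fun y => ⟨y.1.1.1 * z⁻¹, hs y, ?_⟩,
    fun s => ⟨⟨⟨s.1 * z, mul_mem ((D.conj hzG hzF).T_le_G s.2.1) hzG, D.pr (z⁻¹ * F z), ?_⟩, ?_⟩, ?_⟩,
    fun y => by simp, fun s => Subtype.ext (mul_inv_cancel_right _ _)⟩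
  · obtain ⟨w, hw⟩ := y.1.1.2.2
    have h3 := key _ (hs y)
    rw [inv_mul_cancel_right, hw, pr_rp] at h3
    show c = (y.1.1.1 * z⁻¹)⁻¹ * F (y.1.1.1 * z⁻¹)
    refine hc.trans ?_
    rw [← h3, ← hw, map_mul, map_inv]
    group
  · have h3 : c = s.1⁻¹ * F s.1 := s.2.2
    calc (s.1 * z)⁻¹ * F (s.1 * z) = z⁻¹ * (s.1⁻¹ * F s.1) * F z := by rw [map_mul]; group
      _ = _ := by rw [h3.symm.trans hc]; group
  · apply Subtype.ext
    show cj (s.1 * z) D.T = cj x D.T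
    rw [cj_mul, cj_eq_of_mem s.2.1, hzT]
  · show D.pr (x⁻¹ * (s.1 * z)) = v
    have h3 : z⁻¹ * s.1 * z ∈ D.T := mem_cj.1 s.2.1
    have h4 : x⁻¹ * (s.1 * z) = rp D v * (z⁻¹ * s.1 * z) := by rw [hr]; group
    rw [h4, D.pr_mul (rp_mem D v) (D.T_le_NN h3), (D.pr_eq_one_iff (D.T_le_NN h3)).2 h3, mul_one, pr_rp]

theorem finite_Zf : Finite (Zf D) := by
  have := D.amb.finite_GF G
  refine Nat.finite_of_card_ne_zero ?_
  rw [card_Zf]
  exact (Nat.mul_pos Nat.card_pos Nat.card_pos).ne'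

theorem finite_tori : (tori D).Finite := by
  have := finite_Zf D
  have h1 := D.amb.finite_GF G
  refine Finite.of_surjective (Zf.tor D) fun T => ?_
  have : Finite ↥(T.1 ⊓ GF F G) := Finite.of_injective _ (Subgroup.inclusion_injective inf_le_right)
  have h2 : Nat.card {y : Zf D // Zf.tor D y = T} ≠ 0 := by
    rw [card_fiber_tor]
    exact (Nat.mul_pos Nat.card_pos Nat.card_pos).ne'
  obtain ⟨y, hy⟩ := (Nat.card_ne_zero.1 h2).1
  exact ⟨y, hy⟩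

/-- **The count of the tori.** -/
theorem count : ∑ᶠ T ∈ tori D, Nat.card ↥(T ⊓ GF F G) = Nat.card (GF F G) := by
  have := finite_Zf D
  have : Fintype (tori D) := (finite_tori D).fintype
  have h1 := card_Zf D
  rw [← Nat.card_congr (Equiv.sigmaFiberEquiv (Zf.tor D)), Nat.card_sigma,
    Finset.sum_congr rfl fun T _ => card_fiber_tor D T, ← Finset.mul_sum] at h1
  rw [← finsum_set_coe_eq_finsum_mem, finsum_eq_sum_of_fintype]
  exact Nat.eq_of_mul_eq_mul_left Nat.card_pos h1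

end Cfsg.Agent.DL.St
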