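import Cfsg.Agent.DL.St.Cell

/-!
# Automorphisms of a split `(B,N)`-pair with Lang's theorem on the Borel subgroup (helper4)
-/

set_option autoImplicit false
set_option linter.unusedSectionVars false

namespace Cfsg.Agent.DL.St

open CoxeterSystem Cfsg.Agent.Tits.Core Cfsg.Agent.Tits.Exchange Cfsg.Agent.DL.Mk

variable {I W Y : Type*} [Group W] [Group Y] {M : CoxeterMatrix I}

/-- `α` preserves the split `(B,N)`-pair and induces the diagram automorphism `(φ, f)` -/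
structure Aut (cs : CoxeterSystem M W) (G U T N : Subgroup Y) (π : Y → W) (α : MulAut Y) (φ : W ≃* W)
    (f : Equiv.Perm I) : Prop where
  mapG : ∀ g ∈ G, α g ∈ G
  mapU : ∀ u ∈ U, α u ∈ U
  mapN : ∀ a ∈ N, α a ∈ N
  π_map : ∀ a ∈ N, π (α a) = φ (π a)
  simple : ∀ i, φ (cs.simple i) = cs.simple (f i)
  langU : ∀ u ∈ U, ∃ v ∈ U, u = v⁻¹ * α v
  langT : ∀ t ∈ T, ∃ s ∈ T, t = s⁻¹ * α s

/-- the solutions of a Lang equation form a coset of the group of fixed points -/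
theorem card_lang {K : Subgroup Y} (α : Y →* Y) {c s₀ : Y} (hs₀ : s₀ ∈ K) (e : c = s₀⁻¹ * α s₀) :
    Nat.card {s // s ∈ K ∧ c = s⁻¹ * α s} = Nat.card {s // s ∈ K ∧ α s = s} := by
  refine Nat.card_congr ⟨fun s => ⟨s.1 * s₀⁻¹, mul_mem s.2.1 (inv_mem hs₀), ?_⟩,
    fun s => ⟨s.1 * s₀, mul_mem s.2.1 hs₀, ?_⟩, fun s => by simp, fun s => by simp⟩
  · have h := e.symm.trans s.2.2
    rw [map_mul, map_inv]
    calc α s.1 * (α s₀)⁻¹ = s.1 * (s.1⁻¹ * α s.1) * (α s₀)⁻¹ := by group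
      _ = _ := by rw [← h]; group
  · rw [map_mul, s.2.2]
    exact e.trans (by group)

variable {cs : CoxeterSystem M W} {G U T N : Subgroup Y} {π : Y → W} {n : I → Y} {X : I → Subgroup Y}
  (S : SBN cs G U T N π n X) {α : MulAut Y} {φ : W ≃* W} {f : Equiv.Perm I} (A : Aut cs G U T N π α φ f)

include S A

namespace Aut

theorem mapT {t : Y} (ht : t ∈ T) : α t ∈ T := by
  rw [← S.π_eq_one _ (A.mapN _ (S.T_le ht)), A.π_map _ (S.T_le ht), S.π_T ht, map_one]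

theorem cl_map {g : Y} (hg : g ∈ G) : cl U N π (α g) = φ (cl U N π g) := by
  obtain ⟨a, ha, h⟩ := exists_dc S hg
  rw [cl_eq S ha h, cl_eq S (A.mapN a ha) (SBN.map_dc A.mapU h), A.π_map a ha]

theorem map_Par {J : Set I} (hJ : ∀ i, f i ∈ J ↔ i ∈ J) {g : Y} (hg : g ∈ Par S J) : α g ∈ Par S J :=
  ⟨A.mapG g hg.1, by rw [A.cl_map S hg.1]; exact mem_WJ_map A.simple hJ hg.2⟩

theorem langB {b : Y} (hb : b ∈ Par S ∅) : ∃ z ∈ Par S ∅, b = z⁻¹ * α z := by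
  obtain ⟨u, hu, t, ht, rfl⟩ := (mem_Par_empty S).1 hb
  obtain ⟨s, hs, rfl⟩ := A.langT t ht
  obtain ⟨v, hv, e⟩ := A.langU _ (S.T_norm s hs u hu)
  refine ⟨v * s, mul_mem (U_le_Par S _ hv) (T_le_Par S _ hs), ?_⟩
  rw [map_mul]
  calc _ = s⁻¹ * (s * u * s⁻¹) * α s := by group
    _ = _ := by rw [e]; group

theorem exists_fix_B {x : Y} (hx : x ∈ G) (h : x⁻¹ * α x ∈ Par S ∅) : ∃ y ∈ G, α y = y ∧ x⁻¹ * y ∈ Par S ∅ := by
  obtain ⟨z, hz, e⟩ := A.langB S h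
  refine ⟨x * z⁻¹, mul_mem hx (inv_mem hz.1), ?_, by simpa using hz⟩
  rw [map_mul, map_inv]
  calc α x * (α z)⁻¹ = x * (x⁻¹ * α x) * (α z)⁻¹ := by group
    _ = _ := by rw [e]; group

theorem exists_fix_gate {J : Set I} (hJ : ∀ i, f i ∈ J ↔ i ∈ J) {x : Y} (hx : x ∈ G) (h : x⁻¹ * α x ∈ Par S J) :
    ∃ y ∈ G, α y = y ∧ x⁻¹ * y ∈ Par S J ∧ cl U N π y = mn cs J (cl U N π x) := by
  obtain ⟨y, hy, h1, h2⟩ := exists_gate S J hx
  have h3 : y⁻¹ * α y ∈ Par S J := by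
    have := mul_mem (mul_mem (inv_mem h1) h) (A.map_Par S hJ h1)
    rw [map_mul, map_inv] at this
    convert this using 1
    group
  have h4 : IsMinR cs J (cl U N π y) := h2 ▸ isMinR_mn J _
  obtain ⟨z, hz, h5, h6⟩ := A.exists_fix_B S hy
    (gate_uniq S hy h3 h4 (by rw [A.cl_map S hy]; exact isMinR_map A.simple hJ h4))
  refine ⟨z, hz, h5, ?_, by rw [cl_eq_of_B S hy h6, h2]⟩
  simpa [mul_assoc] using mul_mem h1 (Par_mono S (Set.empty_subset J) h6)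

theorem langPar (hG : ∀ g ∈ G, ∃ x ∈ G, g = x⁻¹ * α x) {J : Set I} (hJ : ∀ i, f i ∈ J ↔ i ∈ J) {b : Y}
    (hb : b ∈ Par S J) : ∃ z ∈ Par S J, b = z⁻¹ * α z := by
  obtain ⟨x, hx, rfl⟩ := hG b hb.1
  obtain ⟨y, -, h1, h2, -⟩ := A.exists_fix_gate S hJ hx hb
  refine ⟨y⁻¹ * x, by simpa using inv_mem h2, ?_⟩
  rw [map_mul, map_inv, h1]
  group

theorem exists_fix_N {w : W} (hw : φ w = w) : ∃ a ∈ N, α a = a ∧ π a = w := by
  have ha := S.lift_mem w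
  obtain ⟨s, hs, e⟩ := A.langT _ (S.mem_T_of_π_eq' ha (A.mapN _ ha) (by rw [A.π_map _ ha, S.π_lift, hw]))
  refine ⟨lift cs n w * s⁻¹, mul_mem ha (S.T_le (inv_mem hs)), ?_, by rw [S.π_mul_T ha (inv_mem hs), S.π_lift]⟩
  rw [map_mul, map_inv]
  calc _ = lift cs n w * ((lift cs n w)⁻¹ * α (lift cs n w)) * (α s)⁻¹ := by group
    _ = _ := by rw [e]; group

theorem mid_fix {a g : Y} (ha : a ∈ N) (h : g ∈ dc U a) (hg : α g = g) : α a = a := by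
  have h2 := SBN.map_dc A.mapU h
  rw [hg] at h2
  exact S.dc_uniq (A.mapN a ha) ha h2 h

theorem cl_fix {g : Y} (hg : g ∈ G) (h : α g = g) : φ (cl U N π g) = cl U N π g := by
  rw [← A.cl_map S hg, h]

end Aut

end Cfsg.Agent.DL.St
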