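import Cfsg.Agent.DL.St.Cox
import Cfsg.Agent.DL.Mk.SBN

/-!
# Bruhat cells and standard parabolic subgroups of a split `(B,N)`-pair (helper4)
-/

set_option autoImplicit false
set_option linter.unusedSectionVars false

namespace Cfsg.Agent.DL.St

open CoxeterSystem Cfsg.Agent.Tits.Core Cfsg.Agent.Tits.Exchange Cfsg.Agent.DL.Mk

variable {I W Y : Type*} [Group W] [Group Y] {M : CoxeterMatrix I}

open Classical in
/-- the Bruhat cell of an element -/
noncomputable def cl (U N : Subgroup Y) (π : Y → W) (g : Y) : W :=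
  if h : ∃ a ∈ N, g ∈ dc U a then π h.choose else 1

variable {cs : CoxeterSystem M W} {G U T N : Subgroup Y} {π : Y → W} {n : I → Y} {X : I → Subgroup Y}
  (S : SBN cs G U T N π n X)

include S

theorem cl_eq {a g : Y} (ha : a ∈ N) (hg : g ∈ dc U a) : cl U N π g = π a := by
  have h : ∃ a ∈ N, g ∈ dc U a := ⟨a, ha, hg⟩
  rw [cl, dif_pos h, S.dc_uniq h.choose_spec.1 ha h.choose_spec.2 hg]

theorem exists_dc {g : Y} (hg : g ∈ G) : ∃ a ∈ N, g ∈ dc U a := by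
  obtain ⟨u, hu, a, ha, v, hv, e⟩ := S.cover g hg
  exact ⟨a, ha, u, hu, v, hv, e⟩

theorem T_le_G : T ≤ G := S.T_le.trans S.N_le

theorem n_mem_G (i : I) : n i ∈ G := S.N_le (S.n_mem i)

theorem cl_N {a : Y} (ha : a ∈ N) : cl U N π a = π a := cl_eq S ha (self_mem_dc U a)

theorem cl_one : cl U N π 1 = 1 := by rw [cl_N S (one_mem _), S.π_one]

theorem cl_inv {g : Y} (hg : g ∈ G) : cl U N π g⁻¹ = (cl U N π g)⁻¹ := by
  obtain ⟨a, ha, h⟩ := exists_dc S hg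
  rw [cl_eq S ha h, cl_eq S (inv_mem ha) (dc_inv h), S.π_inv ha]

theorem cl_mul_U {g u : Y} (hg : g ∈ G) (hu : u ∈ U) : cl U N π (g * u) = cl U N π g := by
  obtain ⟨a, ha, h⟩ := exists_dc S hg
  rw [cl_eq S ha h, cl_eq S ha (dc_mul_right h hu)]

theorem cl_U_mul {g u : Y} (hu : u ∈ U) (hg : g ∈ G) : cl U N π (u * g) = cl U N π g := by
  obtain ⟨a, ha, h⟩ := exists_dc S hg
  rw [cl_eq S ha h, cl_eq S ha (dc_mul_left h hu)]

theorem cl_mul_T {g t : Y} (hg : g ∈ G) (ht : t ∈ T) : cl U N π (g * t) = cl U N π g := by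
  obtain ⟨a, ha, h⟩ := exists_dc S hg
  rw [cl_eq S ha h, cl_eq S (mul_mem ha (S.T_le ht)) (S.dc_mul_T ht h), S.π_mul_T ha ht]

theorem cl_T_mul {g t : Y} (ht : t ∈ T) (hg : g ∈ G) : cl U N π (t * g) = cl U N π g := by
  obtain ⟨a, ha, h⟩ := exists_dc S hg
  rw [cl_eq S ha h, cl_eq S (mul_mem (S.T_le ht) ha) (S.T_mul_dc ht h), S.π_T_mul ht ha]

theorem cl_U {u : Y} (hu : u ∈ U) : cl U N π u = 1 := by
  rw [← mul_one u, cl_U_mul S hu (one_mem _), cl_one S]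

theorem cl_T {t : Y} (ht : t ∈ T) : cl U N π t = 1 := by rw [cl_N S (S.T_le ht), S.π_T ht]

theorem cl_step_up {g : Y} (hg : g ∈ G) {i : I}
    (hl : cs.length (cl U N π g) < cs.length (cl U N π g * cs.simple i)) :
    cl U N π (g * n i) = cl U N π g * cs.simple i := by
  obtain ⟨a, ha, h⟩ := exists_dc S hg
  rw [cl_eq S ha h] at hl ⊢
  rw [cl_eq S (mul_mem ha (S.n_mem i)) (S.step_up ha hl h), S.π_mul _ ha _ (S.n_mem i), S.π_n]

theorem cl_step {g : Y} (hg : g ∈ G) (i : I) :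
    cl U N π (g * n i) = cl U N π g * cs.simple i ∨ cl U N π (g * n i) = cl U N π g := by
  by_cases hl : cs.length (cl U N π g) < cs.length (cl U N π g * cs.simple i)
  · exact Or.inl (cl_step_up S hg hl)
  obtain ⟨a, ha, h⟩ := exists_dc S hg
  have hb : a * (n i)⁻¹ ∈ N := mul_mem ha (inv_mem (S.n_mem i))
  have hπ : π (a * (n i)⁻¹) = π a * cs.simple i := by
    rw [S.π_mul _ ha _ (inv_mem (S.n_mem i)), S.π_inv (S.n_mem i), S.π_n, inv_simple]
  have h1 : g ∈ dc U (a * (n i)⁻¹ * n i) := by simpa using h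
  obtain ⟨g', hg', ξ, hξ, e⟩ := S.step_down h1
  have hg'G := S.dc_le hb hg'
  have h2 : cl U N π g' = cl U N π g * cs.simple i := by rw [cl_eq S hb hg', cl_eq S ha h, hπ]
  by_cases h0 : ξ = 1
  · left
    rw [← h2, e, h0, mul_one, mul_assoc, cl_mul_T S hg'G (S.n_sq i)]
  · right
    obtain ⟨x, hx, t, ht, y, hy, e2⟩ := S.rk1 i ξ hξ h0
    have h3 : g * n i = g' * x * t * n i * y := by
      calc g * n i = g' * (n i * ξ * n i) := by rw [e]; group
        _ = _ := by rw [e2]; group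
    have h4 : g' * x * t ∈ G := mul_mem (mul_mem hg'G (S.U_le (S.X_le i hx))) (T_le_G S ht)
    have h5 : cl U N π (g' * x * t) = cl U N π g * cs.simple i := by
      rw [cl_mul_T S (mul_mem hg'G (S.U_le (S.X_le i hx))) ht, cl_mul_U S hg'G (S.X_le i hx), h2]
    rw [h3, cl_mul_U S (mul_mem h4 (n_mem_G S i)) (S.X_le i hy), cl_step_up S h4, h5, simple_mul_simple_cancel_right]
    rw [h5, simple_mul_simple_cancel_right]
    have := cs.length_mul_simple_ne (cl U N π g) i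
    omega

theorem cl_mul_dc_T {g h t : Y} (hg : g ∈ G) (ht : t ∈ T) (hh : h ∈ dc U t) : cl U N π (g * h) = cl U N π g := by
  obtain ⟨u, hu, v, hv, rfl⟩ := hh
  rw [← mul_assoc, ← mul_assoc, cl_mul_U S (mul_mem (mul_mem hg (S.U_le hu)) (T_le_G S ht)) hv,
    cl_mul_T S (mul_mem hg (S.U_le hu)) ht, cl_mul_U S hg hu]

theorem cl_mul_mem {J : Set I} {g h : Y} (hg : g ∈ G) (hh : h ∈ G) (hJ : cl U N π h ∈ WJ cs J) :
    (cl U N π g)⁻¹ * cl U N π (g * h) ∈ WJ cs J := by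
  obtain ⟨a, ha, h1⟩ := exists_dc S hh
  rw [cl_eq S ha h1] at hJ
  clear hh
  revert h
  refine S.length_induction (K := ⊤) (P := fun a => π a ∈ WJ cs J → ∀ {h : Y}, h ∈ dc U a →
    (cl U N π g)⁻¹ * cl U N π (g * h) ∈ WJ cs J) (fun _ => trivial) ?_ ?_ a ha trivial hJ
  · intro t ht _ _ h hh
    rw [cl_mul_dc_T S hg ht hh, inv_mul_cancel]
    exact one_mem _
  · intro i a ha _ hl ih hJ h hh
    rw [S.π_mul _ ha _ (S.n_mem i), S.π_n] at hJ
    have h1 : cs.simple i ∈ WJ cs J := mem_WJ_of_nn cs hJ ((nn_eq_one_iff cs (cs.isReflection_simple i)).2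
      (by rwa [simple_mul_simple_cancel_right]))
    have h2 : π a ∈ WJ cs J := by simpa using mul_mem hJ h1
    obtain ⟨h', hh', ξ, hξ, rfl⟩ := S.step_down hh
    have h3 : g * h' ∈ G := mul_mem hg (S.dc_le ha hh')
    rw [← mul_assoc, ← mul_assoc, cl_mul_U S (mul_mem h3 (n_mem_G S i)) (S.X_le i hξ)]
    rcases cl_step S h3 i with e | e
    · rw [e, ← mul_assoc]
      exact mul_mem (ih h2 hh') h1
    · rw [e]
      exact ih h2 hh'

theorem cl_mul {g h : Y} (hg : g ∈ G) (hh : h ∈ G)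
    (hl : cs.length (cl U N π g * cl U N π h) = cs.length (cl U N π g) + cs.length (cl U N π h)) :
    cl U N π (g * h) = cl U N π g * cl U N π h := by
  obtain ⟨a, ha, h1⟩ := exists_dc S hh
  rw [cl_eq S ha h1] at hl ⊢
  clear hh
  revert h
  refine S.length_induction (K := ⊤) (P := fun a =>
    cs.length (cl U N π g * π a) = cs.length (cl U N π g) + cs.length (π a) → ∀ {h : Y}, h ∈ dc U a →
    cl U N π (g * h) = cl U N π g * π a) (fun _ => trivial) ?_ ?_ a ha trivial hl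
  · intro t ht _ _ h hh
    rw [cl_mul_dc_T S hg ht hh, S.π_T ht, mul_one]
  · intro i a ha _ hl ih hl2 h hh
    rw [S.π_mul _ ha _ (S.n_mem i), S.π_n, ← mul_assoc] at hl2 ⊢
    have h1 := cs.length_mul_le (cl U N π g) (π a)
    have h2 := cs.length_mul_simple (cl U N π g * π a) i
    have h4 := cs.length_mul_simple (π a) i
    obtain ⟨h', hh', ξ, hξ, rfl⟩ := S.step_down hh
    have h3 : g * h' ∈ G := mul_mem hg (S.dc_le ha hh')
    have h5 := ih (by omega) hh'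
    rw [← mul_assoc, ← mul_assoc, cl_mul_U S (mul_mem h3 (n_mem_G S i)) (S.X_le i hξ), cl_step_up S h3, h5]
    rw [h5]
    omega

/-- the standard parabolic subgroup of type `J` -/
def Par (J : Set I) : Subgroup Y where
  carrier := {g | g ∈ G ∧ cl U N π g ∈ WJ cs J}
  one_mem' := ⟨one_mem _, by rw [cl_one S]; exact one_mem _⟩
  mul_mem' := fun {a b} ha hb => ⟨mul_mem ha.1 hb.1, by
    simpa using mul_mem ha.2 (cl_mul_mem S ha.1 hb.1 hb.2)⟩
  inv_mem' := fun {a} ha => ⟨inv_mem ha.1, by rw [cl_inv S ha.1]; exact inv_mem ha.2⟩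

theorem mem_Par {J : Set I} {g : Y} : g ∈ Par S J ↔ g ∈ G ∧ cl U N π g ∈ WJ cs J := Iff.rfl

theorem Par_le (J : Set I) : Par S J ≤ G := fun _ h => h.1

theorem Par_mono {J K : Set I} (h : J ⊆ K) : Par S J ≤ Par S K := fun _ hg => ⟨hg.1, WJ_mono cs h hg.2⟩

theorem U_le_Par (J : Set I) : U ≤ Par S J := fun _ h => ⟨S.U_le h, by rw [cl_U S h]; exact one_mem _⟩

theorem T_le_Par (J : Set I) : T ≤ Par S J := fun _ h => ⟨T_le_G S h, by rw [cl_T S h]; exact one_mem _⟩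

theorem mem_Par_N {J : Set I} {a : Y} (ha : a ∈ N) : a ∈ Par S J ↔ π a ∈ WJ cs J := by
  rw [mem_Par, cl_N S ha, and_iff_right (S.N_le ha)]

theorem mem_Par_empty {g : Y} : g ∈ Par S ∅ ↔ ∃ u ∈ U, ∃ t ∈ T, g = u * t := by
  constructor
  · rintro ⟨h1, h2⟩
    obtain ⟨a, ha, h⟩ := exists_dc S h1
    rw [cl_eq S ha h, mem_WJ_empty, S.π_eq_one a ha] at h2
    exact ⟨_, (S.mem_dc_T h2).1 h, a, h2, by group⟩
  · rintro ⟨u, hu, t, ht, rfl⟩
    exact mul_mem (U_le_Par S _ hu) (T_le_Par S _ ht)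

theorem cl_mul_B {g b : Y} (hg : g ∈ G) (hb : b ∈ Par S ∅) : cl U N π (g * b) = cl U N π g := by
  obtain ⟨u, hu, t, ht, rfl⟩ := (mem_Par_empty S).1 hb
  rw [← mul_assoc, cl_mul_T S (mul_mem hg (S.U_le hu)) ht, cl_mul_U S hg hu]

theorem cl_B_mul {g b : Y} (hb : b ∈ Par S ∅) (hg : g ∈ G) : cl U N π (b * g) = cl U N π g := by
  obtain ⟨u, hu, t, ht, rfl⟩ := (mem_Par_empty S).1 hb
  rw [mul_assoc, cl_U_mul S hu (mul_mem (T_le_G S ht) hg), cl_T_mul S ht hg]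

theorem cl_eq_of_B {x y : Y} (hx : x ∈ G) (h : x⁻¹ * y ∈ Par S ∅) : cl U N π y = cl U N π x := by
  rw [← cl_mul_B S hx h, mul_inv_cancel_left]

theorem cl_coset {J : Set I} {x y : Y} (hx : x ∈ G) (h : x⁻¹ * y ∈ Par S J) :
    (cl U N π x)⁻¹ * cl U N π y ∈ WJ cs J := by
  simpa using cl_mul_mem S hx h.1 h.2

theorem mn_cl {J : Set I} {x y : Y} (hx : x ∈ G) (h : x⁻¹ * y ∈ Par S J) :
    mn cs J (cl U N π x) = mn cs J (cl U N π y) := mn_eq_mn.2 (cl_coset S hx h)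

theorem cl_gate {J : Set I} {x y : Y} (hx : x ∈ G) (h : x⁻¹ * y ∈ Par S J) (hm : IsMinR cs J (cl U N π x)) :
    cl U N π y = cl U N π x * cl U N π (x⁻¹ * y) := by
  rw [← cl_mul S hx h.1 (hm _ h.2), mul_inv_cancel_left]

theorem gate_uniq {J : Set I} {x y : Y} (hx : x ∈ G) (h : x⁻¹ * y ∈ Par S J) (hm : IsMinR cs J (cl U N π x))
    (hm' : IsMinR cs J (cl U N π y)) : x⁻¹ * y ∈ Par S ∅ := by
  have h1 := cl_gate S hx h hm
  rw [← eq_of_isMinR hm hm' (cl_coset S hx h), left_eq_mul] at h1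
  exact ⟨h.1, mem_WJ_empty.2 h1⟩

theorem gate_lt {J : Set I} {x y : Y} (hx : x ∈ G) (h : x⁻¹ * y ∈ Par S J) (hm : IsMinR cs J (cl U N π x))
    (hne : x⁻¹ * y ∉ Par S ∅) : cs.length (cl U N π x) < cs.length (cl U N π y) := by
  rw [cl_gate S hx h hm, hm _ h.2]
  have : cs.length (cl U N π (x⁻¹ * y)) ≠ 0 := fun e =>
    hne ⟨h.1, mem_WJ_empty.2 (cs.length_eq_zero_iff.1 e)⟩
  omega

theorem exists_gate (J : Set I) {x : Y} (hx : x ∈ G) :
    ∃ y ∈ G, x⁻¹ * y ∈ Par S J ∧ cl U N π y = mn cs J (cl U N π x) := by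
  obtain ⟨a, ha, h⟩ := exists_dc S hx
  rw [cl_eq S ha h]
  obtain ⟨u, hu, v, hv, rfl⟩ := h
  have hb := S.lift_mem (mn cs J (π a))
  refine ⟨u * lift cs n (mn cs J (π a)), mul_mem (S.U_le hu) (S.N_le hb), ?_, ?_⟩
  · have h1 : a⁻¹ * lift cs n (mn cs J (π a)) ∈ Par S J := by
      rw [mem_Par_N S (mul_mem (inv_mem ha) hb), S.π_mul _ (inv_mem ha) _ hb, S.π_inv ha, S.π_lift]
      exact inv_mul_mn J _
    convert mul_mem (inv_mem (U_le_Par S J hv)) h1 using 1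
    group
  · rw [cl_U_mul S hu (S.N_le hb), cl_N S hb, S.π_lift]

theorem mem_U_of_conj {a u : Y} (ha : a ∈ N) (hu : u ∈ U) (h : a⁻¹ * u * a ∈ Par S ∅) : a⁻¹ * u * a ∈ U := by
  obtain ⟨v, hv, t, ht, e⟩ := (mem_Par_empty S).1 h
  have h1 : a * t = a := S.uniq _ (mul_mem ha (S.T_le ht)) _ ha u hu _ (inv_mem (S.T_norm' ht hv)) (by
    calc a * t = a * (v * t) * (t⁻¹ * v * t)⁻¹ := by group
      _ = _ := by rw [← e]; group)
  rw [e, mul_eq_left.1 h1, mul_one]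
  exact hv

/-- An element of `U` that fixes a chamber other than the standard one has a trivial component at a simple root. -/
theorem exists_descent {g : Y} (hg : g ∈ G) (hB : g ∉ Par S ∅) :
    ∃ i, ∃ v ∈ U, ∀ u ∈ U, g⁻¹ * u * g ∈ Par S ∅ → (n i)⁻¹ * (v⁻¹ * u * v) * n i ∈ U := by
  obtain ⟨a, ha, h⟩ := exists_dc S hg
  have h1 : π a ≠ 1 := fun e => hB ⟨hg, by rw [cl_eq S ha h]; exact mem_WJ_empty.2 e⟩
  obtain ⟨i, hi⟩ := cs.exists_leftDescent_of_ne_one h1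
  obtain ⟨v, hv, v', hv', rfl⟩ := h
  refine ⟨i, v, hv, fun u hu hu2 => ?_⟩
  have hvu : v⁻¹ * u * v ∈ U := mul_mem (mul_mem (inv_mem hv) hu) hv
  refine mem_U_of_conj S (S.n_mem i) hvu ?_
  have hn : n i ∈ Par S {i} := by
    rw [mem_Par_N S (S.n_mem i), S.π_n]
    exact simple_mem_WJ cs rfl
  have hz : (n i)⁻¹ * (v⁻¹ * u * v) * n i ∈ Par S {i} := mul_mem (mul_mem (inv_mem hn) (U_le_Par S _ hvu)) hn
  have hb : (n i)⁻¹ * a ∈ N := mul_mem (inv_mem (S.n_mem i)) ha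
  have hg' : (n i)⁻¹ * a * v' ∈ G := mul_mem (S.N_le hb) (S.U_le hv')
  have h2 : cl U N π ((n i)⁻¹ * a * v') = cs.simple i * π a := by
    rw [cl_mul_U S (S.N_le hb) hv', cl_N S hb, S.π_mul _ (inv_mem (S.n_mem i)) _ ha, S.π_inv (S.n_mem i), S.π_n,
      inv_simple]
  have h3 : (n i)⁻¹ * (v⁻¹ * u * v) * n i * ((n i)⁻¹ * a * v') =
      (n i)⁻¹ * a * v' * ((v * a * v')⁻¹ * u * (v * a * v')) := by group
  rcases Bldg.mem_WJ_singleton.1 hz.2 with e | e
  · exact ⟨hz.1, mem_WJ_empty.2 e⟩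
  · exfalso
    have h4 : cs.length (cs.simple i * π a) < cs.length (π a) := hi
    have h5 := cl_mul S hz.1 hg' (by
      rw [e, h2, simple_mul_simple_cancel_left, length_simple]
      have := cs.length_simple_mul (π a) i
      omega)
    rw [h3, cl_mul_B S hg' hu2, e, h2, simple_mul_simple_cancel_left] at h5
    rw [h5] at h4
    exact lt_irrefl _ h4

omit S in
/-- regular elements of the torus -/
def Reg (N : Subgroup Y) (X : I → Subgroup Y) (s : Y) : Prop :=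
  ∀ a ∈ N, ∀ i, ∀ ξ ∈ X i, (a * s * a⁻¹) * ξ = ξ * (a * s * a⁻¹) → ξ = 1

omit S in
theorem Reg.conj {s a : Y} (hs : Reg N X s) (ha : a ∈ N) : Reg N X (a * s * a⁻¹) := fun b hb i ξ hξ e =>
  hs (b * a) (mul_mem hb ha) i ξ hξ (by simpa [mul_assoc] using e)

/-- A regular element fixes only the chambers of the standard apartment. -/
theorem reg_fix (hX : ∀ i, ∀ t ∈ T, ∀ ξ ∈ X i, t * ξ * t⁻¹ ∈ X i) {a : Y} (ha : a ∈ N) :
    ∀ {s : Y}, s ∈ T → Reg N X s → ∀ {x : Y}, x ∈ dc U a → x * s * x⁻¹ ∈ Par S ∅ → x * a⁻¹ ∈ U := by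
  refine S.length_induction (K := ⊤) (P := fun a => ∀ {s : Y}, s ∈ T → Reg N X s → ∀ {x : Y}, x ∈ dc U a →
    x * s * x⁻¹ ∈ Par S ∅ → x * a⁻¹ ∈ U) (fun _ => trivial) ?_ ?_ a ha trivial
  · intro t ht _ s _ _ x hx _
    exact (S.mem_dc_T ht).1 hx
  · intro i a ha _ hl ih s hs hreg x hx hB
    obtain ⟨x', hx', ξ, hξ, rfl⟩ := S.step_down hx
    obtain ⟨u, hu, t, ht, e⟩ := (mem_Par_empty S).1 hB
    have hs' := S.conj_T (S.n_mem i) hs
    have hξ' : s⁻¹ * ξ * s ∈ X i := by simpa using hX i _ (inv_mem hs) ξ hξ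
    have h1 : x' * (n i * s * (n i)⁻¹) ∈ dc U (a * (n i * s * (n i)⁻¹)) := S.dc_mul_T hs' hx'
    have h2 : u * (t * x') ∈ dc U (t * a) := dc_mul_left (S.T_mul_dc ht hx') hu
    have e2 : x' * (n i * s * (n i)⁻¹) * n i * (s⁻¹ * ξ * s) = u * (t * x') * n i * ξ := by
      calc _ = x' * n i * ξ * s * (x' * n i * ξ)⁻¹ * (x' * n i * ξ) := by group
        _ = _ := by rw [e]; group
    have ha1 : a * (n i * s * (n i)⁻¹) ∈ N := mul_mem ha (S.T_le hs')
    have ha2 : t * a ∈ N := mul_mem (S.T_le ht) ha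
    have hl1 : cs.length (π (a * (n i * s * (n i)⁻¹))) < cs.length (π (a * (n i * s * (n i)⁻¹)) * cs.simple i) := by
      rwa [S.π_mul_T ha hs']
    have hl2 : cs.length (π (t * a)) < cs.length (π (t * a) * cs.simple i) := by rwa [S.π_T_mul ht ha]
    have h3 := dc_mul_right (S.step_up ha1 hl1 h1) (S.X_le i hξ')
    have h4 := dc_mul_right (S.step_up ha2 hl2 h2) (S.X_le i hξ)
    rw [e2] at h3
    have h5 := mul_right_cancel (S.dc_uniq (mul_mem ha1 (S.n_mem i)) (mul_mem ha2 (S.n_mem i)) h3 h4)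
    rw [h5] at h1
    have h6 := S.step_uniq ha2 hl2 h1 h2 hξ' hξ e2
    have h7 : ξ = 1 := hreg 1 (one_mem _) i ξ hξ (by
      rw [one_mul, inv_one, mul_one]
      calc s * ξ = s * (s⁻¹ * ξ * s) := by rw [h6]
        _ = _ := by group)
    subst h7
    have h8 := ih hs' (hreg.conj (S.n_mem i)) hx' (by convert hB using 1; group)
    convert h8 using 1
    group

end Cfsg.Agent.DL.St
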