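import Cfsg.Agent.Tits.Gate

/-!
# Diagram automorphisms of a finite Coxeter group; the parity lemma (helper4)
-/

set_option autoImplicit false
set_option linter.unusedSectionVars false

namespace Cfsg.Agent.DL.St

open CoxeterSystem Cfsg.Agent.Tits.Core Cfsg.Agent.Tits.Exchange

variable {I W : Type*} [Group W] {M : CoxeterMatrix I} {cs : CoxeterSystem M W}

/-! ### minimal coset representatives -/

/-- the shortest element of `w W_J` -/
noncomputable def mn (cs : CoxeterSystem M W) (J : Set I) (w : W) : W := (exists_isMinR cs J w).choose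

theorem isMinR_mn (J : Set I) (w : W) : IsMinR cs J (mn cs J w) := (exists_isMinR cs J w).choose_spec.1

theorem mn_inv_mul (J : Set I) (w : W) : (mn cs J w)⁻¹ * w ∈ WJ cs J := by
  obtain ⟨u, hu, e⟩ := (exists_isMinR cs J w).choose_spec.2
  have h : (mn cs J w)⁻¹ * w = u := by rw [inv_mul_eq_iff_eq_mul]; exact e
  exact h ▸ hu

theorem inv_mul_mn (J : Set I) (w : W) : w⁻¹ * mn cs J w ∈ WJ cs J := by
  simpa using inv_mem (mn_inv_mul (cs := cs) J w)

theorem eq_of_isMinR {J : Set I} {v v' : W} (h : IsMinR cs J v) (h' : IsMinR cs J v') (e : v⁻¹ * v' ∈ WJ cs J) :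
    v = v' := (IsMinR.unique cs h h' e (by group)).symm

theorem mn_eq_iff {J : Set I} {v w : W} (h : IsMinR cs J v) : mn cs J w = v ↔ w⁻¹ * v ∈ WJ cs J := by
  refine ⟨fun e => e ▸ inv_mul_mn J w, fun e => eq_of_isMinR (isMinR_mn J w) h ?_⟩
  simpa using mul_mem (mn_inv_mul (cs := cs) J w) e

theorem mn_eq_self {J : Set I} {v : W} (h : IsMinR cs J v) : mn cs J v = v :=
  (mn_eq_iff h).2 (by simp)

theorem mn_eq_mn {J : Set I} {v w : W} : mn cs J v = mn cs J w ↔ v⁻¹ * w ∈ WJ cs J := by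
  rw [mn_eq_iff (isMinR_mn J w)]
  constructor
  · intro h
    simpa [mul_assoc] using mul_mem h (mn_inv_mul (cs := cs) J w)
  · intro h
    simpa [mul_assoc] using mul_mem h (inv_mul_mn (cs := cs) J w)

theorem mem_WJ_empty {w : W} : w ∈ WJ cs ∅ ↔ w = 1 := by
  rw [WJ, Set.image_empty, Subgroup.closure_empty, Subgroup.mem_bot]

theorem mem_of_simple_mem (hinj : Function.Injective cs.simple) {J : Set I} {j : I} (h : cs.simple j ∈ WJ cs J) :
    j ∈ J := by
  obtain ⟨ω, h1, h2, h3⟩ := exists_reduced_of_mem_WJ cs h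
  have h4 : ω.length = 1 := by rw [← h2.eq, h3, length_simple]
  obtain ⟨i, rfl⟩ := List.length_eq_one_iff.1 h4
  rw [wordProd_singleton] at h3
  exact hinj h3 ▸ h1 i (by simp)

theorem eq_w0_of_descents [Finite W] {w : W} (h : ∀ i, ¬ cs.length w < cs.length (w * cs.simple i)) : w = w0 cs := by
  by_contra hne
  have h1 : w⁻¹ * w0 cs ≠ 1 := fun e => hne (inv_mul_eq_one.1 e)
  obtain ⟨i, hi⟩ := cs.exists_leftDescent_of_ne_one h1
  have h2 := length_mul_w0 cs w⁻¹
  have h3 := length_mul_w0 cs (cs.simple i * w⁻¹)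
  have h4 : cs.length (cs.simple i * w⁻¹) = cs.length (w * cs.simple i) := by
    rw [← cs.length_inv, mul_inv_rev, inv_inv, inv_simple]
  rw [mul_assoc, h4] at h3
  rw [cs.length_inv] at h2
  have h5 : cs.length (cs.simple i * (w⁻¹ * w0 cs)) < cs.length (w⁻¹ * w0 cs) := hi
  exact h i (by omega)

theorem eq_univ_of_w0_mem [Finite W] (hinj : Function.Injective cs.simple) {J : Set I} (h : w0 cs ∈ WJ cs J) (i : I) :
    i ∈ J := by
  refine mem_of_simple_mem hinj (mem_WJ_of_nn cs h ((nn_eq_one_iff cs (cs.isReflection_simple i)).2 ?_))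
  have := length_w0_mul cs (cs.simple i)
  rw [length_simple] at this
  omega

/-! ### diagram automorphisms -/

section Diag

variable {φ : W ≃* W} {f : Equiv.Perm I} (hφ : ∀ i, φ (cs.simple i) = cs.simple (f i))

include hφ

theorem map_wordProd (ω : List I) : φ (cs.wordProd ω) = cs.wordProd (ω.map f) := by
  induction ω with
  | nil => simp
  | cons i ω ih => rw [cs.wordProd_cons, map_mul, hφ, ih, List.map_cons, cs.wordProd_cons]

theorem length_map_le (w : W) : cs.length (φ w) ≤ cs.length w := by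
  obtain ⟨ω, hω, rfl⟩ := cs.exists_isReduced w
  rw [map_wordProd hφ]
  calc cs.length (cs.wordProd (ω.map f)) ≤ (ω.map f).length := cs.length_wordProd_le _
    _ = ω.length := List.length_map _
    _ = cs.length (cs.wordProd ω) := hω.eq.symm

theorem symm_simple (i : I) : φ.symm (cs.simple i) = cs.simple (f.symm i) := by
  rw [MulEquiv.symm_apply_eq, hφ, Equiv.apply_symm_apply]

theorem length_map (w : W) : cs.length (φ w) = cs.length w := by
  refine le_antisymm (length_map_le hφ w) ?_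
  have := length_map_le (φ := φ.symm) (f := f.symm) (symm_simple hφ) (φ w)
  rwa [MulEquiv.symm_apply_apply] at this

theorem mem_WJ_map {J : Set I} (hJ : ∀ i, f i ∈ J ↔ i ∈ J) {w : W} (hw : w ∈ WJ cs J) : φ w ∈ WJ cs J := by
  obtain ⟨ω, hω, rfl⟩ := exists_word_of_mem_WJ cs hw
  rw [map_wordProd hφ]
  refine wordProd_mem_WJ cs fun i hi => ?_
  obtain ⟨j, hj, rfl⟩ := List.mem_map.1 hi
  exact (hJ j).2 (hω j hj)

theorem asc_map (w : W) (i : I) :
    cs.length (φ w) < cs.length (φ w * cs.simple (f i)) ↔ cs.length w < cs.length (w * cs.simple i) := by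
  rw [← hφ, ← map_mul, length_map hφ, length_map hφ]

theorem isMinR_map {J : Set I} (hJ : ∀ i, f i ∈ J ↔ i ∈ J) {v : W} (hv : IsMinR cs J v) : IsMinR cs J (φ v) := by
  rw [isMinR_iff] at hv ⊢
  intro i hi
  obtain ⟨j, rfl⟩ := f.surjective i
  exact (asc_map hφ v j).2 (hv j ((hJ j).1 hi))

theorem map_w0 [Finite W] : φ (w0 cs) = w0 cs := eq_w0_of_length cs (length_map hφ _).ge

theorem op_map [Finite W] (hinj : Function.Injective cs.simple) (i : I) : op cs (f i) = f (op cs i) := by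
  apply hinj
  rw [simple_op, ← hφ, ← hφ, simple_op, map_mul, map_mul, map_w0 hφ]

theorem asc_iff_of_sameCycle [Finite I] {w : W} (hw : φ w = w) {i j : I} (h : f.SameCycle i j) :
    cs.length w < cs.length (w * cs.simple j) ↔ cs.length w < cs.length (w * cs.simple i) := by
  obtain ⟨m, -, rfl⟩ := h.exists_pow_eq'
  induction m with
  | zero => rfl
  | succ m ih =>
    rw [pow_succ', Equiv.Perm.mul_apply, ← ih (Equiv.Perm.SameCycle.rfl.pow_right), ← asc_map hφ w ((f ^ m) i), hw]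

theorem sameCycle_op [Finite W] [Finite I] (hinj : Function.Injective cs.simple) {i j : I} (h : f.SameCycle i j) :
    f.SameCycle (op cs i) (op cs j) := by
  obtain ⟨m, -, rfl⟩ := h.exists_pow_eq'
  clear h
  induction m with
  | zero => rfl
  | succ m ih => rw [pow_succ', Equiv.Perm.mul_apply, op_map hφ hinj]; exact ih.apply_right

end Diag

/-! ### orbits -/

/-- `q : I → ι` is the quotient map onto the set of orbits of `f` -/
structure Orb {ι : Type*} (f : Equiv.Perm I) (q : I → ι) : Prop where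
  surj : Function.Surjective q
  eq_iff : ∀ i j, q i = q j ↔ f.SameCycle i j

theorem orb_quot (f : Equiv.Perm I) : Orb f (Quotient.mk (Equiv.Perm.SameCycle.setoid f)) :=
  ⟨Quotient.mk_surjective, fun _ _ => Quotient.eq⟩

/-- the union of a set of orbits -/
def JK {ι : Type*} (q : I → ι) (K : Finset ι) : Set I := {i | q i ∈ K}

theorem mem_JK {ι : Type*} {q : I → ι} {K : Finset ι} {i : I} : i ∈ JK q K ↔ q i ∈ K := Iff.rfl

theorem JK_mono {ι : Type*} (q : I → ι) {K L : Finset ι} (h : K ⊆ L) : JK q K ⊆ JK q L := fun _ hi => h hi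

theorem Orb.stable {ι : Type*} {f : Equiv.Perm I} {q : I → ι} (h : Orb f q) (K : Finset ι) (i : I) :
    f i ∈ JK q K ↔ i ∈ JK q K := by
  rw [mem_JK, mem_JK, (h.eq_iff (f i) i).2 Equiv.Perm.SameCycle.rfl.apply_left]

/-- the number of cosets `ω W_J` fixed by `ω ↦ w * φ ω` -/
noncomputable def fixW (cs : CoxeterSystem M W) (φ : W ≃* W) (w : W) (J : Set I) : ℕ :=
  Nat.card {ω // IsMinR cs J ω ∧ mn cs J (w * φ ω) = ω}

/-- **The parity lemma.** -/
theorem odd_sum_fixW [Finite W] [Finite I] (hinj : Function.Injective cs.simple) {φ : W ≃* W} {f : Equiv.Perm I}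
    (hφ : ∀ i, φ (cs.simple i) = cs.simple (f i)) {ι : Type*} [Fintype ι] [DecidableEq ι] {q : I → ι} (hq : Orb f q)
    (w : W) : Odd (∑ K : Finset ι, fixW cs φ w (JK q K)) := by
  classical
  let st : Finset ι → Finset ι := fun K => Finset.univ.filter fun o => ∃ i, q i = o ∧ q (op cs i) ∈ K
  have hst : ∀ K i, q i ∈ st K ↔ q (op cs i) ∈ K := by
    intro K i
    simp only [st, Finset.mem_filter, Finset.mem_univ, true_and]
    refine ⟨fun ⟨j, h1, h2⟩ => ?_, fun h => ⟨i, rfl, h⟩⟩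
    rwa [← (hq.eq_iff _ _).2 (sameCycle_op hφ hinj ((hq.eq_iff _ _).1 h1))]
  have hss : ∀ K, st (st K) = K := by
    intro K
    ext o
    obtain ⟨i, rfl⟩ := hq.surj o
    rw [hst, hst, op_op cs hinj]
  have hconj : ∀ K, ∀ u ∈ WJ cs (JK q K), w0 cs * u * w0 cs ∈ WJ cs (JK q (st K)) := by
    intro K u hu
    refine WJ_mono cs ?_ (w0_conj_mem_WJ cs hu)
    rintro _ ⟨i, hi, rfl⟩
    rw [mem_JK, hst, op_op cs hinj]
    exact hi
  let P := Σ K : Finset ι, {ω // IsMinR cs (JK q K) ω ∧ mn cs (JK q K) (w * φ ω) = ω}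
  have hmem : ∀ z : P, IsMinR cs (JK q (st z.1)) (mn cs (JK q (st z.1)) (z.2.1 * w0 cs)) ∧
      mn cs (JK q (st z.1)) (w * φ (mn cs (JK q (st z.1)) (z.2.1 * w0 cs))) =
        mn cs (JK q (st z.1)) (z.2.1 * w0 cs) := by
    rintro ⟨K, ω, h1, h2⟩
    refine ⟨isMinR_mn _ _, mn_eq_mn.2 ?_⟩
    have h3 := hconj K _ ((mn_eq_iff h1).1 h2)
    have h4 := mem_WJ_map hφ (hq.stable (st K)) (mn_inv_mul (cs := cs) (JK q (st K)) (ω * w0 cs))
    have h5 := mul_mem h4 h3
    rw [map_mul, map_mul, map_inv, map_w0 hφ] at h5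
    convert h5 using 1
    calc _ = (φ (mn cs (JK q (st K)) (ω * w0 cs)))⁻¹ * (φ ω * (w0 cs * w0 cs) * ((w * φ ω)⁻¹ * ω) * w0 cs) := by
          rw [w0_mul_self]; group
      _ = _ := by group
  let g : Function.End P := fun z => ⟨st z.1, mn cs (JK q (st z.1)) (z.2.1 * w0 cs), hmem z⟩
  have hext : ∀ z z' : P, z.1 = z'.1 → z.2.1 = z'.2.1 → z = z' := by
    rintro ⟨K, ω, h⟩ ⟨K', ω', h'⟩ e1 e2
    dsimp only at e1 e2
    subst e1 e2
    rfl
  have hg : g ^ 2 ^ 1 = 1 := by
    funext z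
    refine hext _ _ (hss z.1) ?_
    obtain ⟨K, ω, h1, h2⟩ := z
    show mn cs (JK q (st (st K))) (mn cs (JK q (st K)) (ω * w0 cs) * w0 cs) = ω
    have h3 := hconj _ _ (mn_inv_mul (cs := cs) (JK q (st K)) (ω * w0 cs))
    rw [hss] at h3 ⊢
    rw [mn_eq_iff h1]
    convert h3 using 1
    rw [mul_inv_rev, w0_inv]
    calc _ = w0 cs * (mn cs (JK q (st K)) (ω * w0 cs))⁻¹ * ω * (w0 cs * w0 cs) := by rw [w0_mul_self]; group
      _ = _ := by group
  have hu : ∀ ω, IsMinR cs (JK q Finset.univ) ω → ω = 1 := fun ω h =>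
    eq_of_isMinR h (isMinR_one cs _) (by
      rw [show JK q Finset.univ = Set.univ from Set.eq_univ_of_forall fun i => Finset.mem_univ _]
      exact mem_WJ_univ cs _)
  let z0 : P := ⟨Finset.univ, 1, isMinR_one cs _, hu _ (isMinR_mn _ _)⟩
  have hfix : ∀ z : P, g z = z ↔ z = z0 := by
    rintro ⟨K, ω, h1, h2⟩
    constructor
    · intro e
      have e1 : st K = K := congrArg Sigma.fst e
      have e2 : mn cs (JK q (st K)) (ω * w0 cs) = ω := congrArg (fun z : P => z.2.1) e
      rw [e1, mn_eq_iff h1] at e2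
      have e3 : w0 cs ∈ WJ cs (JK q K) := by simpa [w0_inv] using e2
      have e4 : K = Finset.univ := Finset.eq_univ_of_forall fun o => by
        obtain ⟨i, rfl⟩ := hq.surj o
        exact eq_univ_of_w0_mem hinj e3 i
      subst e4
      exact hext _ _ rfl (hu _ h1)
    · intro e
      rw [e]
      have e1 : st Finset.univ = Finset.univ := Finset.eq_univ_of_forall fun o => by
        obtain ⟨i, rfl⟩ := hq.surj o
        exact (hst _ i).2 (Finset.mem_univ _)
      refine hext _ _ e1 (hu _ ?_)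
      show IsMinR cs (JK q Finset.univ) (mn cs (JK q (st Finset.univ)) (1 * w0 cs))
      rw [e1]
      exact isMinR_mn _ _
  have : Fintype P := Fintype.ofFinite _
  have h1 := Equiv.Perm.card_fixedPoints_modEq (p := 2) hg
  have h2 : Fintype.card g.fixedPoints = 1 := by
    rw [Fintype.card_eq_one_iff]
    exact ⟨⟨z0, (hfix z0).2 rfl⟩, fun z => Subtype.ext ((hfix z).1 z.2)⟩
  rw [h2, ← Nat.card_eq_fintype_card, Nat.card_sigma] at h1
  exact Nat.odd_iff.2 h1

end Cfsg.Agent.DL.St
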